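import Mathlib
import Cfsg.Agent.R2.T2.Orb.Div

/-!
# S5929, `n = 6`, `p = 2`: spaces closed under squares over the field with four elements (helper4)

* `abs` : a space `R` (with `1`, closed under squares, of dimension at most 4) of elements of an algebra over the field with
  four elements, such that no non-scalar element of `R` satisfies a quadratic equation, contains a non-scalar `M` with
  `M f(M) = 0`, `f(0) ≠ 0`, where the degrees of all irreducible factors of `f` are divisible by 3 or all by 7.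
-/

set_option autoImplicit false

namespace Cfsg.Agent.R2.T2.Two

open Polynomial Module

universe u v

section
variable {F : Type u} [Field F] {A : Type v} [Ring A] [Algebra F A]

theorem two_poly (h2 : (2 : F) = 0) : (2 : F[X]) = 0 := by
  rw [← map_ofNat C 2, h2, map_zero]

/-- not a scalar -/
def NS (F : Type u) [Field F] {A : Type v} [Ring A] [Algebra F A] (M : A) : Prop := ∀ c : F, M ≠ algebraMap F A c

/-- the assumptions -/
structure Sq (R : Submodule F A) : Prop where
  two : (2 : F) = 0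
  one : (1 : A) ∈ R
  sq : ∀ M ∈ R, M * M ∈ R
  no : ∀ M ∈ R, NS F M → ∀ a b : F, aeval M (X ^ 2 + C a * X + C b) ≠ 0

variable {R : Submodule F A}

theorem Sq.alg (h : Sq R) (c : F) : algebraMap F A c ∈ R := by
  rw [Algebra.algebraMap_eq_smul_one]
  exact R.smul_mem c h.one

/-- the polynomial `X² + r X` -/
theorem Sq.mem1 (h : Sq R) {M : A} (hM : M ∈ R) (r : F) : aeval M (X ^ 2 + C r * X) ∈ R := by
  rw [map_add, map_mul, map_pow, aeval_X, aeval_C, ← Algebra.smul_def, pow_two]
  exact R.add_mem (h.sq M hM) (R.smul_mem r hM)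

theorem Sq.mem2 (h : Sq R) {M : A} (hM : M ∈ R) (a b : F) : aeval M (X ^ 4 + C a * X ^ 2 + C b * X) ∈ R := by
  rw [map_add, map_add, map_mul, map_mul, map_pow, map_pow, aeval_X, aeval_C, aeval_C, ← Algebra.smul_def,
    ← Algebra.smul_def]
  have e : M ^ 4 = (M * M) * (M * M) := by
    rw [show (4 : ℕ) = 2 + 2 by norm_num, pow_add, pow_two]
  rw [e, pow_two]
  exact R.add_mem (R.add_mem (h.sq _ (h.sq M hM)) (R.smul_mem a (h.sq M hM))) (R.smul_mem b hM)

theorem Sq.ns1 (h : Sq R) {M : A} (hM : M ∈ R) (hn : NS F M) (r : F) : NS F (aeval M (X ^ 2 + C r * X)) := by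
  intro c hc
  apply h.no M hM hn r (-c)
  rw [map_add, hc, aeval_C, map_neg, add_neg_cancel]

/-- no roots, degree 3 -/
theorem Sq.root3 (h : Sq R) {M : A} (hM : M ∈ R) (hn : NS F M) {a b c : F}
    (he : aeval M (X ^ 4 + C a * X ^ 2 + C b * X + C c) = 0) (r : F) : r ^ 3 + a * r + b ≠ 0 := by
  intro hr
  have h2 := two_poly h.two
  apply h.no _ (h.mem1 hM r) (h.ns1 hM hn r) (a + r ^ 2) c
  rw [← aeval_comp, ← he]
  congr 1
  simp only [add_comp, mul_comp, pow_comp, X_comp, C_comp]
  have hr' : C b = -(C r ^ 3 + C a * C r) := by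
    rw [← map_pow, ← map_mul, ← map_add, ← map_neg]
    congr 1
    linear_combination hr
  rw [hr', map_add, map_pow]
  linear_combination (C r * X ^ 3 + C r ^ 2 * X ^ 2 + (C a * C r + C r ^ 3) * X) * h2

/-- no roots, degree 7 -/
theorem Sq.root7 (h : Sq R) {M : A} (hM : M ∈ R) (hn : NS F M)
    (hI : ∀ M ∈ R, NS F M → ∀ a b c : F, aeval M (X ^ 4 + C a * X ^ 2 + C b * X + C c) ≠ 0) {a b c d : F}
    (he : aeval M (X ^ 8 + C a * X ^ 4 + C b * X ^ 2 + C c * X + C d) = 0) (r : F) : r ^ 7 + a * r ^ 3 + b * r + c ≠ 0 := by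
  intro hr
  have h2 := two_poly h.two
  apply hI _ (h.mem1 hM r) (h.ns1 hM hn r) (a + r ^ 4) (b + (a + r ^ 4) * r ^ 2) d
  rw [← aeval_comp, ← he]
  congr 1
  simp only [add_comp, mul_comp, pow_comp, X_comp, C_comp]
  have hr' : C c = -(C r ^ 7 + C a * C r ^ 3 + C b * C r) := by
    rw [← map_pow, ← map_pow, ← map_mul, ← map_mul, ← map_add, ← map_add, ← map_neg]
    congr 1
    linear_combination hr
  rw [hr', map_add, map_pow, map_add, map_mul, map_add, map_pow, map_pow]
  linear_combination (2 * C r * X ^ 7 + 3 * C r ^ 2 * X ^ 6 + 2 * C r ^ 3 * X ^ 5 + C r ^ 4 * X ^ 4 +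
    (C a + C r ^ 4) * C r * X ^ 3 + (C a + C r ^ 4) * C r ^ 2 * X ^ 2 +
    (C a * C r ^ 3 + C b * C r + C r ^ 7) * X) * h2

end

end Cfsg.Agent.R2.T2.Two
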