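import Cfsg.Agent.R2.T2.Two.Deg

/-!
# S5929, `n = 6`, `p = 2`: spaces closed under squares over the field with four elements, II (helper4)

* `abs_four` : the element `M` with `M f(M) = 0`.
-/

set_option autoImplicit false

namespace Cfsg.Agent.R2.T2.Two

open Polynomial Module

universe u v

section
variable {F : Type u} [Field F] {A : Type v} [Ring A] [Algebra F A] {R : Submodule F A}

/-- the conclusion -/
def Concl (R : Submodule F A) : Prop :=
  ∃ M ∈ R, NS F M ∧ ∃ (f : F[X]) (d : ℕ), (d = 3 ∨ d = 7) ∧ f.coeff 0 ≠ 0 ∧ aeval M (X * f) = 0 ∧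
    ∀ q : F[X], q.Monic → Irreducible q → q ∣ f → d ∣ q.natDegree

theorem ns_shift {M : A} (hn : NS F M) (s : F) : NS F (aeval M (X + C s)) := by
  intro c hc
  apply hn (c - s)
  rw [map_add, aeval_X, aeval_C] at hc
  rw [map_sub, ← hc, add_sub_cancel_right]

theorem Sq.mem_shift (h : Sq R) {M : A} (hM : M ∈ R) (s : F) : aeval M (X + C s) ∈ R := by
  rw [map_add, aeval_X, aeval_C]
  exact R.add_mem hM (h.alg s)

/-- degree 3 -/
theorem Sq.case3 [Finite F] (h : Sq R) {M : A} (hM : M ∈ R) (hn : NS F M) {a b c : F}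
    (he : aeval M (X ^ 4 + C a * X ^ 2 + C b * X + C c) = 0) : Concl R := by
  have h2 := h.two
  have hroot := h.root3 hM hn he
  have hb : b ≠ 0 := by
    intro h0
    apply hroot 0
    rw [h0]
    ring
  -- the shift
  have hinj : Function.Injective fun x : F => x ^ 4 + a * x ^ 2 + b * x := by
    intro x y hxy
    have hxy' : x ^ 4 + a * x ^ 2 + b * x = y ^ 4 + a * y ^ 2 + b * y := hxy
    by_contra hne
    have hs : x + y ≠ 0 := by
      intro h0
      apply hne
      linear_combination h0 - y * h2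
    apply hroot (x + y)
    have h3 : (x + y) * ((x + y) ^ 3 + a * (x + y) + b) = 0 := by
      linear_combination hxy' + (2 * x ^ 3 * y + 3 * x ^ 2 * y ^ 2 + 2 * x * y ^ 3 + a * x * y + y ^ 4 + a * y ^ 2 + b * y) * h2
    exact (mul_eq_zero.1 h3).resolve_left hs
  obtain ⟨s, hs⟩ := Finite.surjective_of_injective hinj c
  have hs' : s ^ 4 + a * s ^ 2 + b * s = c := hs
  refine ⟨aeval M (X + C s), h.mem_shift hM s, ns_shift hn s, X ^ 3 + C a * X + C b, 3, Or.inl rfl, ?_, ?_, ?_⟩
  · simpa using hb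
  · rw [← aeval_comp, ← he]
    congr 1
    have h2P := two_poly h2
    simp only [add_comp, mul_comp, pow_comp, X_comp, C_comp]
    rw [← hs', map_add, map_add, map_mul, map_mul, map_pow, map_pow]
    linear_combination (2 * X ^ 3 * C s + 3 * X ^ 2 * C s ^ 2 + 2 * X * C s ^ 3 + C a * X * C s) * h2P
  · intro q _ hq hd
    have hdeg : (X ^ 3 + C a * X + C b : F[X]).natDegree = 3 := by compute_degree!
    have hirr : Irreducible (X ^ 3 + C a * X + C b : F[X]) := by
      refine Polynomial.irreducible_of_degree_le_three_of_not_isRoot (by rw [hdeg]; decide) fun x hx => hroot x ?_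
      rw [IsRoot.def] at hx
      simpa using hx
    have h3 : Associated q (X ^ 3 + C a * X + C b : F[X]) := hq.associated_of_dvd hirr hd
    rw [Polynomial.natDegree_eq_of_degree_eq (Polynomial.degree_eq_degree_of_associated h3), hdeg]

/-- degree 7 -/
theorem Sq.case7 [Finite F] (hF : Nat.card F = 4) (h : Sq R) {M : A} (hM : M ∈ R) (hn : NS F M)
    (hI : ∀ M ∈ R, NS F M → ∀ a b c : F, aeval M (X ^ 4 + C a * X ^ 2 + C b * X + C c) ≠ 0) {a b c d : F}
    (he : aeval M (X ^ 8 + C a * X ^ 4 + C b * X ^ 2 + C c * X + C d) = 0) : Concl R := by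
  have h2 := h.two
  have h2P := two_poly h2
  have hroot := h.root7 hM hn hI he
  have hc : c ≠ 0 := by
    intro h0
    apply hroot 0
    rw [h0]
    ring
  have hinj : Function.Injective fun x : F => ad8 a b c x := by
    intro x y hxy
    have hxy' : ad8 a b c x = ad8 a b c y := hxy
    by_contra hne
    have hs : x + y ≠ 0 := by
      intro h0
      apply hne
      linear_combination h0 - y * h2
    apply hroot (x + y)
    have h3 : (x + y) * ((x + y) ^ 7 + a * (x + y) ^ 3 + b * (x + y) + c) = 0 := by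
      have h4 := ad8_add h2 a b c x y
      rw [hxy'] at h4
      have h5 : ad8 a b c (x + y) = (x + y) * ((x + y) ^ 7 + a * (x + y) ^ 3 + b * (x + y) + c) := by unfold ad8; ring
      rw [← h5, h4]
      linear_combination ad8 a b c y * h2
    exact (mul_eq_zero.1 h3).resolve_left hs
  obtain ⟨s, hs⟩ := Finite.surjective_of_injective hinj d
  have hs' : ad8 a b c s = d := hs
  refine ⟨aeval M (X + C s), h.mem_shift hM s, ns_shift hn s, X ^ 7 + C a * X ^ 3 + C b * X + C c, 7, Or.inr rfl, ?_, ?_, ?_⟩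
  · simpa using hc
  · rw [← aeval_comp, ← he]
    congr 1
    simp only [add_comp, mul_comp, pow_comp, X_comp, C_comp]
    have e1 : (X + C s) * ((X + C s) ^ 7 + C a * (X + C s) ^ 3 + C b * (X + C s) + C c) =
        (X ^ 8 + C a * X ^ 4 + C b * X ^ 2 + C c * X) + C (ad8 a b c s) := by
      unfold ad8
      simp only [map_add, map_mul, map_pow]
      linear_combination (4 * X ^ 7 * C s + 14 * X ^ 6 * C s ^ 2 + 28 * X ^ 5 * C s ^ 3 + 35 * X ^ 4 * C s ^ 4 +
        28 * X ^ 3 * C s ^ 5 + 14 * X ^ 2 * C s ^ 6 + 4 * X * C s ^ 7 + C a * (2 * X ^ 3 * C s + 3 * X ^ 2 * C s ^ 2 +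
        2 * X * C s ^ 3) + C b * X * C s) * h2P
    rw [e1, hs']
  · intro q _ hq hd
    refine deg7 hF h2 hroot ?_ hq hd
    intro a' b' s' e1 e2 e3
    -- `B = M⁴ + a' M² + b' M` satisfies `B² + s' B + d = 0`
    have hB := h.mem2 hM a' b'
    have hBn : NS F (aeval M (X ^ 4 + C a' * X ^ 2 + C b' * X)) := by
      intro e hee
      apply hI M hM hn a' b' (-e)
      rw [map_add, hee, aeval_C, map_neg, add_neg_cancel]
    apply h.no _ hB hBn s' d
    rw [← aeval_comp, ← he]
    congr 1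
    simp only [add_comp, mul_comp, pow_comp, X_comp, C_comp]
    rw [e1, e2, e3]
    simp only [map_add, map_mul, map_pow]
    linear_combination (C a' * X ^ 6 + C b' * X ^ 5 + C a' * C b' * X ^ 3) * h2P

/-- **the element `M` with `M f(M) = 0`** -/
theorem abs_four [Finite F] (hF : Nat.card F = 4) (h : Sq R) [FiniteDimensional F R] (hR : finrank F R ≤ 4)
    {M : A} (hM : M ∈ R) (hn : NS F M) : Concl R := by
  by_cases hI : ∃ M ∈ R, NS F M ∧ ∃ a b c : F, aeval M (X ^ 4 + C a * X ^ 2 + C b * X + C c) = 0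
  · obtain ⟨M, hM, hn, a, b, c, he⟩ := hI
    exact h.case3 hM hn he
  push Not at hI
  have hM2 := h.sq M hM
  have hM4 := h.sq _ hM2
  have hM8 := h.sq _ hM4
  -- a linear relation
  have hdep : ¬ LinearIndependent F (![⟨M * M * (M * M) * (M * M * (M * M)), hM8⟩, ⟨M * M * (M * M), hM4⟩, ⟨M * M, hM2⟩,
      ⟨M, hM⟩, ⟨1, h.one⟩] : Fin 5 → R) := by
    intro hli
    have := hli.fintype_card_le_finrank
    rw [Fintype.card_fin] at this
    omega
  rw [Fintype.not_linearIndependent_iff] at hdep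
  obtain ⟨g, hg, i, hi⟩ := hdep
  have hg' : g 0 • (M * M * (M * M) * (M * M * (M * M))) + g 1 • (M * M * (M * M)) + g 2 • (M * M) + g 3 • M +
      g 4 • (1 : A) = 0 := by
    have h3 := congrArg (fun x : R => (x : A)) hg
    rw [Fin.sum_univ_five] at h3
    exact h3
  have hpoly : aeval M (C (g 0) * X ^ 8 + C (g 1) * X ^ 4 + C (g 2) * X ^ 2 + C (g 3) * X + C (g 4)) = 0 := by
    rw [← hg']
    simp only [map_add, map_mul, map_pow, aeval_X, aeval_C]
    simp only [Algebra.smul_def]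
    have e4 : M * M * (M * M) = M ^ 4 := by noncomm_ring
    have e8 : M ^ 4 * M ^ 4 = M ^ 8 := by rw [← pow_add]
    rw [e4, e8, ← pow_two, mul_one]
  have h0 : g 0 ≠ 0 := by
    intro h0
    have h1 : g 1 = 0 := by
      by_contra h1
      apply hI M hM hn ((g 1)⁻¹ * g 2) ((g 1)⁻¹ * g 3) ((g 1)⁻¹ * g 4)
      have e : X ^ 4 + C ((g 1)⁻¹ * g 2) * X ^ 2 + C ((g 1)⁻¹ * g 3) * X + C ((g 1)⁻¹ * g 4) =
          C (g 1)⁻¹ * (C (g 0) * X ^ 8 + C (g 1) * X ^ 4 + C (g 2) * X ^ 2 + C (g 3) * X + C (g 4)) := by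
        have e1 : C (g 1)⁻¹ * C (g 1) = (1 : F[X]) := by rw [← map_mul, inv_mul_cancel₀ h1, map_one]
        rw [h0, map_zero, zero_mul, zero_add, map_mul, map_mul, map_mul]
        linear_combination -X ^ 4 * e1
      rw [e, map_mul, hpoly, mul_zero]
    have h22 : g 2 = 0 := by
      by_contra h22
      apply h.no M hM hn ((g 2)⁻¹ * g 3) ((g 2)⁻¹ * g 4)
      have e : X ^ 2 + C ((g 2)⁻¹ * g 3) * X + C ((g 2)⁻¹ * g 4) =
          C (g 2)⁻¹ * (C (g 0) * X ^ 8 + C (g 1) * X ^ 4 + C (g 2) * X ^ 2 + C (g 3) * X + C (g 4)) := by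
        have e1 : C (g 2)⁻¹ * C (g 2) = (1 : F[X]) := by rw [← map_mul, inv_mul_cancel₀ h22, map_one]
        rw [h0, h1, map_zero, zero_mul, zero_mul, zero_add, zero_add, map_mul, map_mul]
        linear_combination -X ^ 2 * e1
      rw [e, map_mul, hpoly, mul_zero]
    have h3 : g 3 = 0 := by
      by_contra h3
      apply hn (-((g 3)⁻¹ * g 4))
      have e : aeval M (X + C ((g 3)⁻¹ * g 4)) = 0 := by
        have e : X + C ((g 3)⁻¹ * g 4) =
            C (g 3)⁻¹ * (C (g 0) * X ^ 8 + C (g 1) * X ^ 4 + C (g 2) * X ^ 2 + C (g 3) * X + C (g 4)) := by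
          have e1 : C (g 3)⁻¹ * C (g 3) = (1 : F[X]) := by rw [← map_mul, inv_mul_cancel₀ h3, map_one]
          rw [h0, h1, h22, map_zero, zero_mul, zero_mul, zero_mul, zero_add, zero_add, zero_add, map_mul]
          linear_combination -X * e1
        rw [e, map_mul, hpoly, mul_zero]
      rw [map_add, aeval_X, aeval_C] at e
      rw [map_neg]
      exact eq_neg_of_add_eq_zero_left e
    have h4 : g 4 = 0 := by
      rw [h0, h1, h22, h3] at hg'
      simp only [zero_smul, zero_add] at hg'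
      by_contra h4
      have h5 : (1 : A) = 0 := (smul_eq_zero.1 hg').resolve_left h4
      apply hn 0
      rw [map_zero]
      calc M = M * 1 := (mul_one M).symm
        _ = 0 := by rw [h5, mul_zero]
    apply hi
    fin_cases i
    · exact h0
    · exact h1
    · exact h22
    · exact h3
    · exact h4
  refine h.case7 hF hM hn hI (a := (g 0)⁻¹ * g 1) (b := (g 0)⁻¹ * g 2) (c := (g 0)⁻¹ * g 3) (d := (g 0)⁻¹ * g 4) ?_
  have e : X ^ 8 + C ((g 0)⁻¹ * g 1) * X ^ 4 + C ((g 0)⁻¹ * g 2) * X ^ 2 + C ((g 0)⁻¹ * g 3) * X + C ((g 0)⁻¹ * g 4) =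
      C (g 0)⁻¹ * (C (g 0) * X ^ 8 + C (g 1) * X ^ 4 + C (g 2) * X ^ 2 + C (g 3) * X + C (g 4)) := by
    have e1 : C (g 0)⁻¹ * C (g 0) = (1 : F[X]) := by rw [← map_mul, inv_mul_cancel₀ h0, map_one]
    rw [map_mul, map_mul, map_mul, map_mul]
    linear_combination -X ^ 8 * e1
  rw [e, map_mul, hpoly, mul_zero]

end

end Cfsg.Agent.R2.T2.Two
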