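import Cfsg.Agent.R2.T2.Two.Abs

/-!
# S5929, `n = 6`, `p = 2`: additive polynomials of degree 8 over the field with four elements (helper4)

* `deg7` : the degrees of the irreducible factors are divisible by 7.
-/

set_option autoImplicit false

namespace Cfsg.Agent.R2.T2.Two

open Polynomial Module

universe u v

theorem card_le_of_roots {K : Type*} [Field K] {p : K[X]} (hp : p ≠ 0) (S : Finset K) (h : ∀ x ∈ S, p.eval x = 0) :
    S.card ≤ p.natDegree := by
  classical
  refine Polynomial.card_le_degree_of_subset_roots ?_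
  intro x hx
  exact (Polynomial.mem_roots hp).2 (h x hx)

theorem fix4 {F K : Type*} [Field F] [Field K] [Algebra F K] [Finite F] (hF : Nat.card F = 4) {x : K} (hx : x ^ 4 = x) :
    ∃ r : F, algebraMap F K r = x := by
  classical
  by_contra hno
  push Not at hno
  have := Fintype.ofFinite F
  have hdeg : (X ^ 4 - X : K[X]).natDegree = 4 := by compute_degree!
  have hne : (X ^ 4 - X : K[X]) ≠ 0 := by
    intro h0
    rw [h0, natDegree_zero] at hdeg
    omega
  have h1 := card_le_of_roots hne (insert x (Finset.univ.image (algebraMap F K))) (by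
    intro y hy
    rw [eval_sub, eval_pow, eval_X, sub_eq_zero]
    rcases Finset.mem_insert.1 hy with h | h
    · rw [h, hx]
    · obtain ⟨r, -, rfl⟩ := Finset.mem_image.1 h
      rw [← map_pow]
      congr 1
      have h3 := FiniteField.pow_card r
      rwa [← Nat.card_eq_fintype_card, hF] at h3)
  rw [Finset.card_insert_of_notMem, Finset.card_image_of_injective _ (algebraMap F K).injective, Finset.card_univ,
    ← Nat.card_eq_fintype_card, hF, hdeg] at h1
  · omega
  · intro h
    obtain ⟨r, -, hr⟩ := Finset.mem_image.1 h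
    exact hno r hr

section
variable {K : Type v} [Field K]

theorem add4 (h2 : (2 : K) = 0) (x y : K) : (x + y) ^ 4 = x ^ 4 + y ^ 4 := by
  linear_combination (2 * x ^ 3 * y + 3 * x ^ 2 * y ^ 2 + 2 * x * y ^ 3) * h2

theorem inj4 (h2 : (2 : K) = 0) {x y : K} (h : x ^ 4 = y ^ 4) : x = y := by
  have h1 : (x + y) ^ 4 = 0 := by
    rw [add4 h2, h]
    linear_combination y ^ 4 * h2
  have h3 := pow_eq_zero_iff (n := 4) (by norm_num) |>.1 h1
  linear_combination h3 - y * h2

/-- the additive polynomial -/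
def ad8 (a b c x : K) : K := x ^ 8 + a * x ^ 4 + b * x ^ 2 + c * x

theorem ad8_add (h2 : (2 : K) = 0) (a b c x y : K) : ad8 a b c (x + y) = ad8 a b c x + ad8 a b c y := by
  have e2 : (x + y) ^ 2 = x ^ 2 + y ^ 2 := by linear_combination (x * y) * h2
  have e4 := add4 h2 x y
  have e8 : (x + y) ^ 8 = x ^ 8 + y ^ 8 := by
    calc (x + y) ^ 8 = ((x + y) ^ 4) ^ 2 := by ring
      _ = (x ^ 4 + y ^ 4) ^ 2 := by rw [e4]
      _ = _ := by linear_combination (x ^ 4 * y ^ 4) * h2
  unfold ad8
  rw [e2, e4, e8]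
  ring

theorem ad8_pow (h2 : (2 : K) = 0) {a b c : K} (ha : a ^ 4 = a) (hb : b ^ 4 = b) (hc : c ^ 4 = c) (x : K) :
    ad8 a b c (x ^ 4) = (ad8 a b c x) ^ 4 := by
  unfold ad8
  rw [add4 h2, add4 h2, add4 h2, mul_pow, mul_pow, mul_pow, ha, hb, hc]
  ring

end

section
variable {F : Type u} [Field F] [Finite F]

/-- **the degrees of the irreducible factors** -/
theorem deg7 (hF : Nat.card F = 4) (h2 : (2 : F) = 0) {a b c : F} (hroot : ∀ r : F, r ^ 7 + a * r ^ 3 + b * r + c ≠ 0)
    (hC : ∀ a' b' s : F, a = a' ^ 2 + s → b = b' ^ 2 + s * a' → c = s * b' → False)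
    {q : F[X]} (hq : Irreducible q) (hd : q ∣ X ^ 7 + C a * X ^ 3 + C b * X + C c) : 7 ∣ q.natDegree := by
  classical
  have : Fact (Irreducible q) := ⟨hq⟩
  obtain ⟨hc, hfin⟩ := Cfsg.Agent.R2.T2.Orb.card_adj hq
  obtain ⟨r, hr⟩ := hd
  have h2K : (2 : AdjoinRoot q) = 0 := by
    rw [← map_ofNat (algebraMap F (AdjoinRoot q)) 2, h2, map_zero]
  have hpow : ∀ x : F, x ^ 4 = x := by
    intro x
    have := Fintype.ofFinite F
    have h3 := FiniteField.pow_card x
    rwa [← Nat.card_eq_fintype_card, hF] at h3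
  set w := AdjoinRoot.root q with hw
  set a1 := algebraMap F (AdjoinRoot q) a with ha1
  set b1 := algebraMap F (AdjoinRoot q) b with hb1
  set c1 := algebraMap F (AdjoinRoot q) c with hc1
  have e0 : w ^ 7 + a1 * w ^ 3 + b1 * w + c1 = 0 := by
    have h3 : aeval w (X ^ 7 + C a * X ^ 3 + C b * X + C c) = 0 := by
      rw [hr, map_mul, aeval_def, AdjoinRoot.algebraMap_eq, AdjoinRoot.eval₂_root, zero_mul]
    rw [map_add, map_add, map_add, map_mul, map_mul, map_pow, map_pow, aeval_X, aeval_C, aeval_C, aeval_C] at h3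
    exact h3
  have ha4 : a1 ^ 4 = a1 := by rw [ha1, ← map_pow, hpow]
  have hb4 : b1 ^ 4 = b1 := by rw [hb1, ← map_pow, hpow]
  have hc4 : c1 ^ 4 = c1 := by rw [hc1, ← map_pow, hpow]
  have hAw : ad8 a1 b1 c1 w = 0 := by unfold ad8; linear_combination w * e0
  -- no rational roots
  have hrat : ∀ x : AdjoinRoot q, x ^ 4 = x → ad8 a1 b1 c1 x = 0 → x = 0 := by
    intro x hx hx0
    obtain ⟨r, rfl⟩ := fix4 hF hx
    by_contra hne
    have hr0 : r ≠ 0 := by
      rintro rfl
      exact hne (map_zero _)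
    apply hroot r
    have h3 : r * (r ^ 7 + a * r ^ 3 + b * r + c) = 0 := by
      apply (algebraMap F (AdjoinRoot q)).injective
      rw [map_zero, ← hx0]
      unfold ad8
      simp only [map_mul, map_add, map_pow]
      ring
    exact (mul_eq_zero.1 h3).resolve_left hr0
  have hw0 : w ≠ 0 := by
    intro h0
    rw [h0] at e0
    apply hroot 0
    apply (algebraMap F (AdjoinRoot q)).injective
    rw [map_zero, ← e0]
    simp only [map_mul, map_add, map_pow, map_zero]
    rfl
  -- the conjugates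
  set w1 := w ^ 4 with hw1
  set w2 := w1 ^ 4 with hw2
  set w3 := w2 ^ 4 with hw3
  have hA1 : ad8 a1 b1 c1 w1 = 0 := by rw [hw1, ad8_pow h2K ha4 hb4 hc4, hAw]; norm_num
  have hA2 : ad8 a1 b1 c1 w2 = 0 := by rw [hw2, ad8_pow h2K ha4 hb4 hc4, hA1]; norm_num
  have hA3 : ad8 a1 b1 c1 w3 = 0 := by rw [hw3, ad8_pow h2K ha4 hb4 hc4, hA2]; norm_num
  have hw10 : w1 ≠ 0 := pow_ne_zero _ hw0
  have hw20 : w2 ≠ 0 := pow_ne_zero _ hw10
  have hself : ∀ x : AdjoinRoot q, x + x = 0 := fun x => by linear_combination x * h2K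
  have eq_of_add : ∀ {x y : AdjoinRoot q}, x + y = 0 → x = y := fun {x y} h => by linear_combination h - y * h2K
  have n1 : w + w1 ≠ 0 := by
    intro h
    exact hw0 (hrat w (eq_of_add h).symm hAw)
  have n2 : w1 + w2 ≠ 0 := by
    intro h
    have h3 : w ^ 4 = w1 ^ 4 := eq_of_add h
    have h4 := inj4 h2K h3
    apply n1
    rw [← h4]
    exact hself w
  have n3 : w + w2 ≠ 0 := by
    intro h
    apply n1
    refine hrat _ ?_ ?_
    · rw [add4 h2K, ← hw1, ← hw2, ← eq_of_add h, add_comm]
    · rw [ad8_add h2K, hAw, hA1, add_zero]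
  have n4 : w + w1 + w2 ≠ 0 := by
    intro h
    have h3 : w + w1 = w2 := eq_of_add h
    have fx : (w ^ 2 + w * w1 + w1 ^ 2) ^ 4 = w ^ 2 + w * w1 + w1 ^ 2 := by
      have e1 : (w ^ 2 + w * w1 + w1 ^ 2) ^ 4 = w1 ^ 2 + w1 * w2 + w2 ^ 2 := by
        rw [add4 h2K, add4 h2K, mul_pow, ← hw2, hw1, hw2]
        ring
      rw [e1, ← h3]
      linear_combination (w1 ^ 2 + w * w1) * h2K
    have gx : (w * w1 * (w + w1)) ^ 4 = w * w1 * (w + w1) := by
      have e1 : (w * w1 * (w + w1)) ^ 4 = w1 * w2 * (w1 + w2) := by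
        rw [mul_pow, mul_pow, add4 h2K, ← hw1, ← hw2]
      rw [e1, ← h3]
      linear_combination (w1 ^ 3 + w * w1 ^ 2) * h2K
    obtain ⟨a', ha'⟩ := fix4 hF fx
    obtain ⟨b', hb'⟩ := fix4 hF gx
    -- `C(w) = C(w1) = 0`
    set s := a - a' ^ 2 with hs
    have hs' : algebraMap F (AdjoinRoot q) s = a1 - (w ^ 2 + w * w1 + w1 ^ 2) ^ 2 := by
      rw [hs, map_sub, map_pow, ha']
    set U := b1 - (w * w1 * (w + w1)) ^ 2 - algebraMap F (AdjoinRoot q) s * (w ^ 2 + w * w1 + w1 ^ 2) with hU
    set W := c1 - algebraMap F (AdjoinRoot q) s * (w * w1 * (w + w1)) with hW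
    have k1 : U * w ^ 2 + W * w = 0 := by
      rw [hU, hW, hs']
      unfold ad8 at hAw
      generalize w1 = y at *
      linear_combination hAw + (-(w ^ 4 + (w ^ 2 + w * y + y ^ 2) * w ^ 2 + (w * y * (w + y)) * w) *
          (w ^ 4 + w ^ 3 * y + w ^ 2 * y ^ 2) + ((w ^ 2 + w * y + y ^ 2) * w ^ 6 + (w * y * (w + y)) * w ^ 5 +
          (w ^ 2 + w * y + y ^ 2) * (w * y * (w + y)) * w ^ 3) -
          (a1 - (w ^ 2 + w * y + y ^ 2) ^ 2) * (w ^ 4 + w ^ 3 * y + w ^ 2 * y ^ 2)) * h2K
    have k2 : U * w1 ^ 2 + W * w1 = 0 := by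
      rw [hU, hW, hs']
      unfold ad8 at hA1
      clear_value w1
      linear_combination hA1 + (-(w1 ^ 4 + (w ^ 2 + w * w1 + w1 ^ 2) * w1 ^ 2 + (w * w1 * (w + w1)) * w1) *
          (w1 ^ 4 + w ^ 2 * w1 ^ 2 + w * w1 ^ 3) + ((w ^ 2 + w * w1 + w1 ^ 2) * w1 ^ 6 + (w * w1 * (w + w1)) * w1 ^ 5 +
          (w ^ 2 + w * w1 + w1 ^ 2) * (w * w1 * (w + w1)) * w1 ^ 3) -
          (a1 - (w ^ 2 + w * w1 + w1 ^ 2) ^ 2) * (w1 ^ 4 + w ^ 2 * w1 ^ 2 + w * w1 ^ 3)) * h2K
    have k3 : U * w + W = 0 := by
      have : w * (U * w + W) = 0 := by linear_combination k1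
      exact (mul_eq_zero.1 this).resolve_left hw0
    have k4 : U * w1 + W = 0 := by
      have : w1 * (U * w1 + W) = 0 := by linear_combination k2
      exact (mul_eq_zero.1 this).resolve_left hw10
    have k5 : U = 0 := by
      have h5 : U * (w + w1) = 0 := by linear_combination k3 + k4 - W * h2K
      exact (mul_eq_zero.1 h5).resolve_right n1
    have k6 : W = 0 := by rw [k5, zero_mul, zero_add] at k3; exact k3
    refine hC a' b' s (by rw [hs]; ring) ?_ ?_
    · apply (algebraMap F (AdjoinRoot q)).injective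
      rw [map_add, map_pow, map_mul, ha', hb']
      rw [hU] at k5
      linear_combination k5
    · apply (algebraMap F (AdjoinRoot q)).injective
      rw [map_mul, hb']
      rw [hW] at k6
      linear_combination k6
  -- a relation
  let g : Bool × Bool × Bool × Bool → AdjoinRoot q := fun e => (bif e.1 then w else 0) + (bif e.2.1 then w1 else 0) +
    (bif e.2.2.1 then w2 else 0) + (bif e.2.2.2 then w3 else 0)
  have hgA : ∀ e, ad8 a1 b1 c1 (g e) = 0 := by
    have h0 : ad8 a1 b1 c1 (0 : AdjoinRoot q) = 0 := by unfold ad8; ring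
    rintro ⟨e0, e1, e2, e3⟩
    show ad8 a1 b1 c1 ((bif e0 then w else 0) + (bif e1 then w1 else 0) + (bif e2 then w2 else 0) +
      (bif e3 then w3 else 0)) = 0
    rw [ad8_add h2K, ad8_add h2K, ad8_add h2K]
    cases e0 <;> cases e1 <;> cases e2 <;> cases e3 <;>
      simp only [cond_true, cond_false, hAw, hA1, hA2, hA3, h0, add_zero]
  have hrel : ∃ e : Bool × Bool × Bool × Bool, e ≠ (false, false, false, false) ∧ g e = 0 := by
    by_contra hno
    push Not at hno
    have hinj : Function.Injective g := by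
      rintro ⟨e0, e1, e2, e3⟩ ⟨d0, d1, d2, d3⟩ he
      by_contra hne
      apply hno (e0 ^^ d0, e1 ^^ d1, e2 ^^ d2, e3 ^^ d3)
      · intro h
        apply hne
        simpa using h
      · have key : ∀ (x y : Bool) (z : AdjoinRoot q), (bif (x ^^ y) then z else 0) = (bif x then z else 0) + (bif y then z else 0) := by
          intro x y z
          cases x <;> cases y <;> simp [hself]
        show (bif (e0 ^^ d0) then w else 0) + (bif (e1 ^^ d1) then w1 else 0) + (bif (e2 ^^ d2) then w2 else 0) +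
          (bif (e3 ^^ d3) then w3 else 0) = 0
        rw [key, key, key, key]
        have he' : (bif e0 then w else 0) + (bif e1 then w1 else 0) + (bif e2 then w2 else 0) + (bif e3 then w3 else 0) =
          (bif d0 then w else 0) + (bif d1 then w1 else 0) + (bif d2 then w2 else 0) + (bif d3 then w3 else 0) := he
        have h5 := hself ((bif d0 then w else 0) + (bif d1 then w1 else 0) + (bif d2 then w2 else 0) + (bif d3 then w3 else 0))
        linear_combination he' + h5
    have hdeg : (X ^ 8 + C a1 * X ^ 4 + C b1 * X ^ 2 + C c1 * X : (AdjoinRoot q)[X]).natDegree = 8 := by compute_degree!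
    have hne : (X ^ 8 + C a1 * X ^ 4 + C b1 * X ^ 2 + C c1 * X : (AdjoinRoot q)[X]) ≠ 0 := by
      intro h0
      rw [h0, natDegree_zero] at hdeg
      omega
    have h1 := card_le_of_roots hne (Finset.univ.image g) (by
      intro y hy
      obtain ⟨e, -, rfl⟩ := Finset.mem_image.1 hy
      have := hgA e
      unfold ad8 at this
      simpa using this)
    rw [Finset.card_image_of_injective _ hinj, hdeg] at h1
    have h3 : (Finset.univ : Finset (Bool × Bool × Bool × Bool)).card = 16 := by decide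
    omega
  -- `w` has period 7
  have h7 : ((((((w ^ 4) ^ 4) ^ 4) ^ 4) ^ 4) ^ 4) ^ 4 = w := by
    rw [← hw1, ← hw2, ← hw3]
    obtain ⟨⟨e0, e1, e2, e3⟩, hne, he⟩ := hrel
    have he' : (bif e0 then w else 0) + (bif e1 then w1 else 0) + (bif e2 then w2 else 0) + (bif e3 then w3 else 0) = 0 := he
    have w30 : w3 ≠ 0 := pow_ne_zero _ hw20
    cases e3
    · exfalso
      cases e0 <;> cases e1 <;> cases e2 <;> simp only [cond_true, cond_false, add_zero, zero_add] at he'
      · exact hne rfl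
      · exact hw20 he'
      · exact hw10 he'
      · exact n2 he'
      · exact hw0 he'
      · exact n3 he'
      · exact n1 he'
      · exact n4 he'
    · have hA13 : (w + w1 + w2) ^ 4 = w1 + w2 + w3 := by rw [add4 h2K, add4 h2K]
      cases e0 <;> cases e1 <;> cases e2 <;> simp only [cond_true, cond_false, add_zero, zero_add] at he'
      · exact absurd he' w30
      · exfalso
        have h3 : w1 ^ 4 = w2 ^ 4 := by rw [← hw2, ← hw3]; exact eq_of_add he'
        exact n2 (by rw [inj4 h2K h3]; exact hself _)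
      · exfalso
        have h3 : w ^ 4 = w2 ^ 4 := by rw [← hw1, ← hw3]; exact eq_of_add he'
        exact n3 (by rw [inj4 h2K h3]; exact hself _)
      · exfalso
        rw [← hA13] at he'
        exact n4 (pow_eq_zero_iff (n := 4) (by norm_num) |>.1 he')
      · exfalso
        have h3 : w = w3 := eq_of_add he'
        apply n4
        refine hrat _ ?_ ?_
        · rw [hA13, ← h3]; ring
        · rw [ad8_add h2K, ad8_add h2K, hAw, hA1, hA2, add_zero, add_zero]
      · -- `w3 = w + w2`
        have h3 : w3 = w + w2 := by linear_combination he' - (w + w2) * h2K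
        have h4 : w3 ^ 4 = w + w1 + w2 := by
          rw [h3, add4 h2K, ← hw1, ← hw3, h3]; ring
        have h5 : (w + w1 + w2) ^ 4 = w + w1 := by rw [hA13, h3]; linear_combination w2 * h2K
        have h6 : (w + w1) ^ 4 = w1 + w2 := by rw [add4 h2K]
        have h8 : (w1 + w2) ^ 4 = w := by rw [add4 h2K, ← hw2, ← hw3, h3]; linear_combination w2 * h2K
        rw [h4, h5, h6, h8]
      · -- `w3 = w + w1`
        have h3 : w3 = w + w1 := by linear_combination he' - (w + w1) * h2K
        have h4 : w3 ^ 4 = w1 + w2 := by rw [h3, add4 h2K]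
        have h5 : (w1 + w2) ^ 4 = w + w1 + w2 := by rw [add4 h2K, ← hw2, ← hw3, h3]; ring
        have h6 : (w + w1 + w2) ^ 4 = w + w2 := by rw [hA13, h3]; linear_combination w1 * h2K
        have h8 : (w + w2) ^ 4 = w := by rw [add4 h2K, ← hw1, ← hw3, h3]; linear_combination w1 * h2K
        rw [h4, h5, h6, h8]
      · exfalso
        have h3 : w3 = w + w1 + w2 := by linear_combination he' - (w + w1 + w2) * h2K
        apply n3
        refine hrat _ ?_ ?_
        · rw [add4 h2K, ← hw1, ← hw3, h3]; linear_combination w1 * h2K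
        · rw [ad8_add h2K, hAw, hA2, add_zero]
  -- the degree
  have hit : ∀ n : ℕ, (fun x : AdjoinRoot q => x ^ 4)^[n] w = w ^ 4 ^ n := by
    intro n
    induction n with
    | zero => simp
    | succ n ih =>
      rw [Function.iterate_succ_apply', ih, ← pow_mul, pow_succ]
  have p1 : Function.IsPeriodicPt (fun x : AdjoinRoot q => x ^ 4) 7 w := by
    show (fun x : AdjoinRoot q => x ^ 4)^[7] w = w
    rw [hit]
    rw [← pow_mul, ← pow_mul, ← pow_mul, ← pow_mul, ← pow_mul, ← pow_mul] at h7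
    exact h7
  have p2 : Function.IsPeriodicPt (fun x : AdjoinRoot q => x ^ 4) q.natDegree w := by
    show (fun x : AdjoinRoot q => x ^ 4)^[q.natDegree] w = w
    rw [hit]
    have := Fintype.ofFinite (AdjoinRoot q)
    have h8 := FiniteField.pow_card w
    rwa [← Nat.card_eq_fintype_card, hc, hF] at h8
  by_contra hno
  have h9 : Nat.gcd 7 q.natDegree = 1 := (Nat.Prime.coprime_iff_not_dvd (by norm_num : Nat.Prime 7)).2 hno
  have p3 := p1.gcd p2
  rw [h9] at p3
  have h10 : w ^ 4 = w := p3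
  exact hw0 (hrat w h10 hAw)

end

end Cfsg.Agent.R2.T2.Two
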