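import Cfsg.Agent.R2.T2.Two.Orb
import Cfsg.Agent.R2.T2.Two.Abs2

/-!
# S5929, `n = 6`, `p = 2`: the element of the Lie algebra (helper4)

* `no_inv_two` : if the Lie algebra modulo its centre has an element fixed by `H`, then `|F| = 4` and there is an
  endomorphism `T ≠ 0` of the 56-dimensional module, commuting with the alternating group, with `T f(T) = 0`, `f(0) ≠ 0`,
  all irreducible factors of `f` of degree divisible by 3 (or all by 7) and `dim ker T < 32`.
-/

set_option autoImplicit false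
set_option linter.unusedSectionVars false
set_option maxRecDepth 100000

namespace Cfsg.Agent.R2.T2.Two

open Cfsg Cfsg.Lie Module Matrix Polynomial
open Cfsg.Agent.R2.T1 Cfsg.Agent.R2.PX Cfsg.Agent.R2.T1.Mu
open Cfsg.Agent.R2.T1.N6D (Zc mem_Zc L_of_mem mem_of_fixed zv del_zv zv_mem)
open Cfsg.Agent.R2.T2.Alg
open Cfsg.Agent.H943.E7V.Block (D1 rho)
open Cfsg.Agent.H952.F4 (ev es matRep MaxAlt)

universe u
variable {F : Type u} [Field F]

/-- the matrices of the elements invariant modulo the centre -/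
noncomputable def RM (H : Subgroup ↥(chevE7.group F)) : Submodule F (Matrix D1 D1 F) := (RR H).map (del F)

variable {H : Subgroup ↥(chevE7.group F)}

theorem mem_RM {M : Matrix D1 D1 F} : M ∈ RM H ↔ ∃ v ∈ RR H, del F v = M := Submodule.mem_map

theorem finrank_RM : finrank F (RM H) = finrank F (RR H) :=
  (LinearEquiv.finrank_eq (Submodule.equivMapOfInjective (del F) Mu.del_injective (RR H))).symm

theorem not_mem_Zc {v : chevE7.Idx → F} (hn : NS F (del F v)) : v ∉ Zc F := by
  intro hv
  obtain ⟨c, hc⟩ := mem_Zc.1 hv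
  apply hn c
  rw [Algebra.algebraMap_eq_smul_one, hc]

theorem ns_of {v : chevE7.Idx → F} (hv : v ∉ Zc F) : NS F (del F v) := by
  intro c hc
  apply hv
  refine mem_Zc.2 ⟨c, ?_⟩
  rw [hc, Algebra.algebraMap_eq_smul_one]

theorem sq_RM [Finite F] (h2 : (2 : F) = 0) (hM : IsCoatom H) (hH : H ≠ ⊥) (hc : Nat.card ↥H ≤ 720)
    (hq : 4 ≤ Nat.card F) : Sq (RM H) where
  two := h2
  one := mem_RM.2 ⟨zv F, Zc_le_RR (zv_mem h2), del_zv h2⟩
  sq := by
    intro M hM'
    obtain ⟨v, hv, rfl⟩ := mem_RM.1 hM'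
    obtain ⟨w, hw⟩ := exists_sq h2 v
    exact mem_RM.2 ⟨w, sq_RR h2 hv hw, hw⟩
  no := by
    intro M hM' hn a b he
    obtain ⟨v, hv, rfl⟩ := mem_RM.1 hM'
    refine no_sq h2 hM hH hc hq hv (not_mem_Zc hn) (a := a) (b := b) ?_
    rw [map_add, map_add, map_mul, map_pow, aeval_X, aeval_C, aeval_C, ← Algebra.smul_def, pow_two,
      Algebra.algebraMap_eq_smul_one] at he
    have e : a • del F v + b • (1 : Matrix D1 D1 F) + (a • del F v + b • (1 : Matrix D1 D1 F)) = 0 := by
      rw [← two_smul F, h2, zero_smul]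
    calc del F v * del F v = (del F v * del F v + a • del F v + b • (1 : Matrix D1 D1 F)) -
          (a • del F v + b • (1 : Matrix D1 D1 F)) := by abel
      _ = (a • del F v + b • (1 : Matrix D1 D1 F) + (a • del F v + b • (1 : Matrix D1 D1 F))) -
          (a • del F v + b • (1 : Matrix D1 D1 F)) := by rw [he, e]
      _ = _ := by abel

/-- `1`, `M`, `M²` are linearly independent -/
theorem three_le {A : Type*} [Ring A] [Algebra F A] {R : Submodule F A} (h : Sq R) [FiniteDimensional F R] {M : A}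
    (hM : M ∈ R) (hn : NS F M) : 3 ≤ finrank F R := by
  have hli : LinearIndependent F (![⟨M * M, h.sq M hM⟩, ⟨M, hM⟩, ⟨1, h.one⟩] : Fin 3 → R) := by
    rw [Fintype.linearIndependent_iff]
    intro g hg
    have hg' : g 0 • (M * M) + g 1 • M + g 2 • (1 : A) = 0 := by
      have h3 := congrArg (fun x : R => (x : A)) hg
      rw [Fin.sum_univ_three] at h3
      exact h3
    have hpoly : aeval M (C (g 0) * X ^ 2 + C (g 1) * X + C (g 2)) = 0 := by
      rw [← hg']
      simp only [map_add, map_mul, map_pow, aeval_X, aeval_C]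
      simp only [Algebra.smul_def]
      rw [← pow_two, mul_one]
    have h0 : g 0 = 0 := by
      by_contra h0
      apply h.no M hM hn ((g 0)⁻¹ * g 1) ((g 0)⁻¹ * g 2)
      have e : X ^ 2 + C ((g 0)⁻¹ * g 1) * X + C ((g 0)⁻¹ * g 2) =
          C (g 0)⁻¹ * (C (g 0) * X ^ 2 + C (g 1) * X + C (g 2)) := by
        have e1 : C (g 0)⁻¹ * C (g 0) = (1 : F[X]) := by rw [← map_mul, inv_mul_cancel₀ h0, map_one]
        rw [map_mul, map_mul]
        linear_combination -X ^ 2 * e1
      rw [e, map_mul, hpoly, mul_zero]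
    have h3 : g 1 = 0 := by
      by_contra h3
      apply hn (-((g 1)⁻¹ * g 2))
      have e : aeval M (X + C ((g 1)⁻¹ * g 2)) = 0 := by
        have e : X + C ((g 1)⁻¹ * g 2) =
            C (g 1)⁻¹ * (C (g 0) * X ^ 2 + C (g 1) * X + C (g 2)) := by
          have e1 : C (g 1)⁻¹ * C (g 1) = (1 : F[X]) := by rw [← map_mul, inv_mul_cancel₀ h3, map_one]
          rw [h0, map_zero, zero_mul, zero_add, map_mul]
          linear_combination -X * e1
        rw [e, map_mul, hpoly, mul_zero]
      rw [map_add, aeval_X, aeval_C] at e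
      rw [map_neg]
      exact eq_neg_of_add_eq_zero_left e
    have h4 : g 2 = 0 := by
      rw [h0, h3] at hg'
      simp only [zero_smul, zero_add] at hg'
      by_contra h4
      have h5 : (1 : A) = 0 := (smul_eq_zero.1 hg').resolve_left h4
      apply hn 0
      rw [map_zero]
      calc M = M * 1 := (mul_one M).symm
        _ = 0 := by rw [h5, mul_zero]
    intro i
    fin_cases i
    · exact h0
    · exact h3
    · exact h4
  have := hli.fintype_card_le_finrank
  rwa [Fintype.card_fin] at this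

/-! ### the kernel -/

theorem ker_conj (g : Gh F) (M : Matrix D1 D1 F) : finrank F (LinearMap.ker (Matrix.toLin' M)) ≤
    finrank F (LinearMap.ker (Matrix.toLin' (rho F g * M * rho F g⁻¹))) := by
  have hinj : Function.Injective (V F g) := by
    intro a b hab
    rw [← ρ_inv (V F) g a, hab, ρ_inv]
  rw [LinearEquiv.finrank_eq (Submodule.equivMapOfInjective (V F g) hinj (LinearMap.ker (Matrix.toLin' M)))]
  apply Submodule.finrank_mono
  rintro _ ⟨x, hx, rfl⟩
  have hx' : M *ᵥ x = 0 := by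
    rw [SetLike.mem_coe, LinearMap.mem_ker, Matrix.toLin'_apply] at hx
    exact hx
  rw [LinearMap.mem_ker, Matrix.toLin'_apply, V_apply, Matrix.mulVec_mulVec, mul_assoc, ← map_mul, inv_mul_cancel, map_one,
    mul_one, ← Matrix.mulVec_mulVec, hx', Matrix.mulVec_zero]

/-- **the kernel is small** -/
theorem ker_small [Finite F] (h2 : (2 : F) = 0) (hM : IsCoatom H) (hH : H ≠ ⊥) (hc : Nat.card ↥H ≤ 720)
    (hq : Nat.card F = 4) {M : Matrix D1 D1 F} (hMR : M ∈ RM H) (hn : NS F M) :
    finrank F (LinearMap.ker (Matrix.toLin' M)) < 32 := by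
  by_contra hno
  push Not at hno
  have hsq := sq_RM h2 hM hH hc (by rw [hq])
  obtain ⟨v, hv, rfl⟩ := mem_RM.1 hMR
  obtain ⟨w, hw⟩ := exists_sq h2 v
  have hwR := sq_RR h2 hv hw
  have hfin : Finite (chevE7.Idx → F) := Module.finite_of_finite F
  -- the elements
  have hns : ∀ a b : F, (a, b) ≠ (0, 0) → NS F (del F (a • v + b • w)) := by
    intro a b hab c hc'
    rw [map_add, map_smul, map_smul, hw] at hc'
    have hc2 : aeval (del F v) (C b * X ^ 2 + C a * X + C c) = 0 := by
      simp only [map_add, map_mul, map_pow, aeval_X, aeval_C]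
      rw [← Algebra.smul_def, ← Algebra.smul_def, pow_two, add_comm (b • _), hc', ← map_add]
      have : c + c = 0 := by linear_combination c * h2
      rw [this, map_zero]
    by_cases hb : b = 0
    · have ha : a ≠ 0 := by
        rintro rfl
        exact hab (by rw [hb])
      apply hn (a⁻¹ * c)
      rw [hb, zero_smul, add_zero] at hc'
      rw [map_mul, ← hc', ← Algebra.smul_def, smul_smul, inv_mul_cancel₀ ha, one_smul]
    · apply hsq.no _ hMR hn (b⁻¹ * a) (b⁻¹ * c)
      have e : X ^ 2 + C (b⁻¹ * a) * X + C (b⁻¹ * c) = C b⁻¹ * (C b * X ^ 2 + C a * X + C c) := by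
        have e1 : C b⁻¹ * C b = (1 : F[X]) := by rw [← map_mul, inv_mul_cancel₀ hb, map_one]
        rw [map_mul, map_mul]
        linear_combination -X ^ 2 * e1
      rw [e, map_mul, hc2, mul_zero]
  set f : {p : F × F // p ≠ (0, 0)} → (chevE7.Idx → F) := fun p => p.1.1 • v + p.1.2 • w with hf
  have hinj : Function.Injective f := by
    rintro ⟨⟨a, b⟩, h⟩ ⟨⟨a', b'⟩, h'⟩ he
    have he' : a • v + b • w = a' • v + b' • w := he
    by_contra hne
    have hne' : (a - a', b - b') ≠ (0, 0) := by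
      intro h3
      apply hne
      rw [Prod.mk.injEq, sub_eq_zero, sub_eq_zero] at h3
      apply Subtype.ext
      exact Prod.ext h3.1 h3.2
    apply hns _ _ hne' 0
    have e : (a - a') • v + (b - b') • w = (a • v + b • w) - (a' • v + b' • w) := by rw [sub_smul, sub_smul]; abel
    rw [e, he', sub_self, map_zero, map_zero]
  have h1 := orb h2 hM hH (Set.range f) {z | 32 ≤ finrank F (LinearMap.ker (Matrix.toLin' (del F z)))} (by
    rintro _ ⟨⟨⟨a, b⟩, h⟩, rfl⟩
    exact ⟨Submodule.add_mem _ (Submodule.smul_mem _ _ hv) (Submodule.smul_mem _ _ hwR), not_mem_Zc (hns a b h)⟩) (by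
    rintro _ ⟨⟨⟨a, b⟩, h⟩, rfl⟩ g
    show 32 ≤ finrank F (LinearMap.ker (Matrix.toLin' (del F (L F g (a • v + b • w)))))
    rw [del_L']
    refine le_trans (le_trans hno ?_) (ker_conj g _)
    apply Submodule.finrank_mono
    intro x hx
    rw [LinearMap.mem_ker, Matrix.toLin'_apply] at hx ⊢
    rw [map_add, map_smul, map_smul, hw, Matrix.add_mulVec, Matrix.smul_mulVec, Matrix.smul_mulVec, ← Matrix.mulVec_mulVec,
      hx, Matrix.mulVec_zero, smul_zero, smul_zero, add_zero])
  have h3 : Nat.card (Set.range f) = 15 := by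
    rw [Nat.card_range_of_injective hinj]
    have e1 : Nat.card {p : F × F // p ≠ (0, 0)} = (({(0, 0)} : Set (F × F))ᶜ).ncard := rfl
    have e2 : Nat.card (F × F) = 16 := by rw [Nat.card_prod, hq]
    rw [e1, Set.ncard_compl, e2, Set.ncard_singleton]
  have h4 := card_ker (F := F)
  have h5 := order_two h2 (by rw [hq] : 4 ≤ Nat.card F)
  rw [h3] at h1
  rw [hq] at h4 h5
  set N := Nat.card {z : chevE7.Idx → F // 32 ≤ finrank F (LinearMap.ker (Matrix.toLin' (del F z)))} with hN
  have h6 : 15 * Nat.card ↥(chevE7.group F) ≤ 720 * N := h1.trans (Nat.mul_le_mul_right _ hc)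
  norm_num at h4 h5
  omega

/-- **the element of the Lie algebra** -/
theorem no_inv_two [Finite F] {φ : ↥(alternatingGroup (Fin 6)) →* ↥(chevE7.group F)}
    {ψ : ↥(alternatingGroup (Fin 6)) →* Gh F} (hM : MaxAlt H 6 φ) (hψ : Lift φ ψ) (h2 : (2 : F) = 0)
    (hq3 : Nat.card F % 3 = 1) (hc : Nat.card ↥H ≤ 720) {v : chevE7.Idx → F} (hv : v ∉ Zc F)
    (hinv : ∀ g : Gh F, ad F g ∈ H → L F g v - v ∈ Zc F) :
    Nat.card F = 4 ∧ ∃ (T : Module.End F (D1 → F)) (f : F[X]) (d : ℕ), (d = 3 ∨ d = 7) ∧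
      (∀ a x, V F (ψ a) (T x) = T (V F (ψ a) x)) ∧ T ≠ 0 ∧ f.coeff 0 ≠ 0 ∧ aeval T (X * f) = 0 ∧
      (∀ q : F[X], q.Monic → Irreducible q → q ∣ f → d ∣ q.natDegree) ∧ finrank F (LinearMap.ker T) < 32 := by
  have hco := hM.coatom
  have hH : H ≠ ⊥ := by
    rintro rfl
    have h5 : Nontrivial ↥(alternatingGroup (Fin 6)) :=
      alternatingGroup.nontrivial_of_three_le_card (by rw [Nat.card_eq_fintype_card, Fintype.card_fin]; omega)
    obtain ⟨a, ha⟩ := exists_ne (1 : ↥(alternatingGroup (Fin 6)))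
    apply ha
    apply hM.inj
    have h6 : φ a ∈ (⊥ : Subgroup ↥(chevE7.group F)) := hM.le ⟨a, rfl⟩
    rw [Subgroup.mem_bot] at h6
    rw [h6, map_one]
  have hev := even_card h2
  have hpos : 0 < Nat.card F := Nat.card_pos
  have hq4 : 4 ≤ Nat.card F := by omega
  have hsq := sq_RM h2 hco hH hc hq4
  have hvR : del F v ∈ RM H := mem_RM.2 ⟨v, hinv, rfl⟩
  have hvn := ns_of hv
  have h3 := three_le hsq hvR hvn
  have h4 := card_RR h2 hco hH hc hq4
  rw [← finrank_RM] at h4
  set k := finrank F (RM H) with hk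
  set q := Nat.card F with hqdef
  have hq : q = 4 := by
    have h5 : q ≤ 9 := by
      by_contra h5
      have h6 : q ^ 3 ≤ q ^ k := Nat.pow_le_pow_right hpos h3
      have h7 : 100 * q ≤ q ^ 3 := by
        have : 10 * 10 ≤ q * q := Nat.mul_le_mul (by omega) (by omega)
        calc 100 * q ≤ (q * q) * q := Nat.mul_le_mul_right _ (by omega)
          _ = q ^ 3 := by ring
      omega
    omega
  rw [hq] at h4
  have hk4 : k ≤ 4 := by
    by_contra h5
    have h6 : 4 ^ 5 ≤ 4 ^ k := Nat.pow_le_pow_right (by norm_num) (by omega)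
    omega
  refine ⟨hq, ?_⟩
  obtain ⟨M, hMR, hMn, f, d, hd, hf0, hMf, hfq⟩ := abs_four (A := Matrix D1 D1 F) hq hsq hk4 hvR hvn
  have hT : ∀ p : F[X], aeval (Matrix.toLin' M) p = Matrix.toLin' (aeval M p) := fun p =>
    Polynomial.aeval_algHom_apply (Matrix.toLinAlgEquiv' : Matrix D1 D1 F ≃ₐ[F] ((D1 → F) →ₗ[F] (D1 → F))).toAlgHom M p
  refine ⟨Matrix.toLin' M, f, d, hd, ?_, ?_, hf0, ?_, hfq, ker_small h2 hco hH hc hq hMR hMn⟩
  · -- the alternating group commutes with `M`
    obtain ⟨w, hw, rfl⟩ := mem_RM.1 hMR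
    have key : ∀ a : ↥(alternatingGroup (Fin 6)), ∃ c : F, rho F (ψ a) * del F w * rho F (ψ a)⁻¹ =
        del F w + c • (1 : Matrix D1 D1 F) := by
      intro a
      obtain ⟨c, hc'⟩ := mem_Zc.1 (hw (ψ a) (by rw [hψ a]; exact hM.le ⟨a, rfl⟩))
      refine ⟨c, ?_⟩
      rw [map_sub, del_L'] at hc'
      rw [hc']
      abel
    let K : Subgroup ↥(alternatingGroup (Fin 6)) :=
      { carrier := {a | rho F (ψ a) * del F w = del F w * rho F (ψ a)}
        one_mem' := by
          show rho F (ψ 1) * del F w = del F w * rho F (ψ 1)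
          rw [map_one, map_one, one_mul, mul_one]
        mul_mem' := by
          intro a b ha hb
          have ha' : rho F (ψ a) * del F w = del F w * rho F (ψ a) := ha
          have hb' : rho F (ψ b) * del F w = del F w * rho F (ψ b) := hb
          show rho F (ψ (a * b)) * del F w = del F w * rho F (ψ (a * b))
          rw [map_mul, map_mul, mul_assoc, hb', ← mul_assoc, ha', mul_assoc]
        inv_mem' := by
          intro a ha
          have ha' : rho F (ψ a) * del F w = del F w * rho F (ψ a) := ha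
          show rho F (ψ a⁻¹) * del F w = del F w * rho F (ψ a⁻¹)
          have h5 : rho F (ψ a⁻¹) * rho F (ψ a) = 1 := by rw [← map_mul, ← map_mul, inv_mul_cancel, map_one, map_one]
          have h6 : rho F (ψ a) * rho F (ψ a⁻¹) = 1 := by rw [← map_mul, ← map_mul, mul_inv_cancel, map_one, map_one]
          calc rho F (ψ a⁻¹) * del F w = rho F (ψ a⁻¹) * (del F w * (rho F (ψ a) * rho F (ψ a⁻¹))) := by rw [h6, mul_one]
            _ = rho F (ψ a⁻¹) * (del F w * rho F (ψ a)) * rho F (ψ a⁻¹) := by simp only [mul_assoc]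
            _ = rho F (ψ a⁻¹) * (rho F (ψ a) * del F w) * rho F (ψ a⁻¹) := by rw [ha']
            _ = (rho F (ψ a⁻¹) * rho F (ψ a)) * del F w * rho F (ψ a⁻¹) := by simp only [mul_assoc]
            _ = _ := by rw [h5, one_mul] }
    have hK : K = ⊤ := by
      rw [eq_top_iff, ← alt_perfect (n := 6) (by norm_num), commutator_def, Subgroup.commutator_le]
      intro a _ b _
      show rho F (ψ (a * b * a⁻¹ * b⁻¹)) * del F w = del F w * rho F (ψ (a * b * a⁻¹ * b⁻¹))
      obtain ⟨c, hca⟩ := key a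
      obtain ⟨e, heb⟩ := key b
      have ha : rho F (ψ a) * del F w = (del F w + c • (1 : Matrix D1 D1 F)) * rho F (ψ a) := by
        rw [← hca, mul_assoc, ← map_mul, inv_mul_cancel, map_one, mul_one]
      have hb : rho F (ψ b) * del F w = (del F w + e • (1 : Matrix D1 D1 F)) * rho F (ψ b) := by
        rw [← heb, mul_assoc, ← map_mul, inv_mul_cancel, map_one, mul_one]
      have hab : rho F (ψ (a * b)) * del F w = (del F w + (c + e) • (1 : Matrix D1 D1 F)) * rho F (ψ (a * b)) := by
        rw [map_mul, map_mul, mul_assoc, hb, ← mul_assoc, mul_add, ha, mul_smul_comm, mul_one]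
        rw [add_mul (del F w) (c • (1 : Matrix D1 D1 F)) (rho F (ψ a)), smul_mul_assoc, one_mul, add_assoc, ← add_smul,
          add_mul, smul_mul_assoc, mul_assoc, add_mul, smul_mul_assoc, one_mul]
      have hba : rho F (ψ (b * a)) * del F w = (del F w + (c + e) • (1 : Matrix D1 D1 F)) * rho F (ψ (b * a)) := by
        rw [map_mul, map_mul, mul_assoc, ha, ← mul_assoc, mul_add, hb, mul_smul_comm, mul_one]
        rw [add_mul (del F w) (e • (1 : Matrix D1 D1 F)) (rho F (ψ b)), smul_mul_assoc, one_mul, add_assoc, ← add_smul,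
          add_mul, smul_mul_assoc, mul_assoc, add_mul, smul_mul_assoc, one_mul, add_comm e c]
      have hcomm : ψ (a * b) = ψ (a * b * a⁻¹ * b⁻¹) * ψ (b * a) := by
        rw [← map_mul]
        congr 1
        group
      set g1 := ψ (b * a) with hg1
      set g2 := ψ (a * b * a⁻¹ * b⁻¹) with hg2
      rw [hcomm, map_mul, mul_assoc, hba] at hab
      have h5 : rho F g1 * rho F g1⁻¹ = 1 := by rw [← map_mul, mul_inv_cancel, map_one]
      have h6 : rho F g2 * (del F w + (c + e) • (1 : Matrix D1 D1 F)) =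
          (del F w + (c + e) • (1 : Matrix D1 D1 F)) * rho F g2 := by
        calc rho F g2 * (del F w + (c + e) • (1 : Matrix D1 D1 F))
            = rho F g2 * ((del F w + (c + e) • (1 : Matrix D1 D1 F)) * rho F g1) * rho F g1⁻¹ := by
              rw [mul_assoc (rho F g2), mul_assoc (_ + _) (rho F g1), h5, mul_one]
          _ = (del F w + (c + e) • (1 : Matrix D1 D1 F)) * (rho F g2 * rho F g1) * rho F g1⁻¹ := by rw [hab]
          _ = _ := by rw [mul_assoc, mul_assoc (rho F g2), h5, mul_one]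
      rw [mul_add, add_mul, mul_smul_comm, smul_mul_assoc, mul_one, one_mul] at h6
      exact add_right_cancel h6
    intro a x
    have ha : a ∈ K := by rw [hK]; trivial
    have ha' : rho F (ψ a) * del F w = del F w * rho F (ψ a) := ha
    rw [Matrix.toLin'_apply, Matrix.toLin'_apply, V_apply, V_apply, Matrix.mulVec_mulVec, Matrix.mulVec_mulVec, ha']
  · intro h0
    apply hMn 0
    rw [map_zero]
    exact (LinearEquiv.map_eq_zero_iff (Matrix.toLin' (R := F) (m := D1) (n := D1))).1 h0
  · rw [hT, hMf, map_zero]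

end Cfsg.Agent.R2.T2.Two
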