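import Cfsg.Agent.R2.T1.N6D.Lq
import Cfsg.Agent.R2.T2.Orb.Cnt
import Cfsg.Agent.R2.T2.N6K.Cnt
import Cfsg.Agent.R2.T2.Alg.Ann

/-!
# S5929, `n = 6`, `p = 2`: the elements of the Lie algebra invariant modulo the centre (helper4)

* `RR H` : the elements of the adjoint module which are fixed by `H` modulo the centre `Zc F`;
* `orb` : `|S| |G| ≤ |H| |N|` for `S` a set of elements of `RR H` outside the centre, `N` a set containing the orbits;
* `order_two` : the order of the group, characteristic 2;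
* `no_sq` : `v ^ 2 ∉ F v + F` for `v` in `RR H` outside the centre.
-/

set_option autoImplicit false
set_option linter.unusedSectionVars false
set_option maxRecDepth 100000

namespace Cfsg.Agent.R2.T2.Two

open Cfsg Cfsg.Lie Module Matrix
open Cfsg.Agent.R2.T1 Cfsg.Agent.R2.PX Cfsg.Agent.R2.T1.Mu
open Cfsg.Agent.R2.T1.N6D (Zc mem_Zc L_of_mem mem_of_fixed)
open Cfsg.Agent.R2.T2.Alg
open Cfsg.Agent.H943.E7V.Block (D1 rho)

universe u

section
variable {F : Type u} [Field F]

/-- the elements of the adjoint module which are fixed by `H` modulo the centre -/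
noncomputable def RR (H : Subgroup ↥(chevE7.group F)) : Submodule F (chevE7.Idx → F) where
  carrier := {v | ∀ g : Gh F, ad F g ∈ H → L F g v - v ∈ Zc F}
  zero_mem' := fun g _ => by rw [map_zero, sub_zero]; exact Submodule.zero_mem _
  add_mem' := by
    intro v w hv hw g hg
    have e : L F g (v + w) - (v + w) = (L F g v - v) + (L F g w - w) := by rw [map_add]; abel
    rw [e]
    exact Submodule.add_mem _ (hv g hg) (hw g hg)
  smul_mem' := by
    intro c v hv g hg
    have e : L F g (c • v) - c • v = c • (L F g v - v) := by rw [map_smul, smul_sub]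
    rw [e]
    exact Submodule.smul_mem _ _ (hv g hg)

variable {H : Subgroup ↥(chevE7.group F)}

theorem mem_RR {v : chevE7.Idx → F} : v ∈ RR H ↔ ∀ g : Gh F, ad F g ∈ H → L F g v - v ∈ Zc F := Iff.rfl

theorem Zc_le_RR : Zc F ≤ RR H := fun v hv g _ => by
  rw [L_of_mem hv, sub_self]
  exact Submodule.zero_mem _

theorem L_sub_mem {g : Gh F} {v : chevE7.Idx → F} (hv : v ∈ Zc F) : L F g v ∈ Zc F := by rwa [L_of_mem hv]

theorem L_mul_apply (g h : Gh F) (v : chevE7.Idx → F) : L F (g * h) v = L F g (L F h v) := by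
  rw [map_mul, Module.End.mul_apply]

theorem L_inv_apply (g : Gh F) (v : chevE7.Idx → F) : L F g⁻¹ (L F g v) = v := ρ_inv (L F) g v

theorem L_inv_apply' (g : Gh F) (v : chevE7.Idx → F) : L F g (L F g⁻¹ v) = v := ρ_inv' (L F) g v

/-- the stabilizer of an element modulo the centre -/
noncomputable def StZ (v : chevE7.Idx → F) : Subgroup (Gh F) where
  carrier := {g | L F g v - v ∈ Zc F}
  one_mem' := by
    show L F 1 v - v ∈ Zc F
    rw [map_one, Module.End.one_apply, sub_self]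
    exact Submodule.zero_mem _
  mul_mem' := by
    intro a b ha hb
    have ha' : L F a v - v ∈ Zc F := ha
    have hb' : L F b v - v ∈ Zc F := hb
    show L F (a * b) v - v ∈ Zc F
    have e : L F (a * b) v - v = L F a (L F b v - v) + (L F a v - v) := by rw [L_mul_apply, map_sub]; abel
    rw [e]
    exact Submodule.add_mem _ (L_sub_mem hb') ha'
  inv_mem' := by
    intro a ha
    have ha' : L F a v - v ∈ Zc F := ha
    show L F a⁻¹ v - v ∈ Zc F
    have e : L F a⁻¹ v - v = -(L F a⁻¹ (L F a v - v)) := by rw [map_sub, L_inv_apply]; abel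
    rw [e]
    exact Submodule.neg_mem _ (L_sub_mem ha')

theorem mem_StZ {v : chevE7.Idx → F} {g : Gh F} : g ∈ StZ v ↔ L F g v - v ∈ Zc F := Iff.rfl

/-- **the stabilizer modulo the centre** -/
theorem StZ_eq (h2 : (2 : F) = 0) (hM : IsCoatom H) {v : chevE7.Idx → F} (hv : v ∈ RR H) (hz : v ∉ Zc F) :
    StZ v = H.comap (ad F) := by
  have h1 : H.comap (ad F) ≤ StZ v := fun g hg => hv g hg
  refine le_antisymm ?_ h1
  by_contra hno
  have h3 : H < (StZ v).map (ad F) := by
    refine lt_of_le_of_ne ?_ ?_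
    · intro h hh
      obtain ⟨g, rfl⟩ := ad_surjective h
      exact ⟨g, h1 hh, rfl⟩
    · intro h4
      apply hno
      intro g hg
      rw [Subgroup.mem_comap, h4]
      exact ⟨g, hg, rfl⟩
  have h5 := hM.2 _ h3
  apply hz
  refine mem_of_fixed h2 fun g => ?_
  have h6 : ad F g ∈ (StZ v).map (ad F) := by rw [h5]; trivial
  obtain ⟨k, hk, hk'⟩ := h6
  have h7 : L F g = L F k := by rw [L_eq, L_eq, hk']
  rw [h7]
  exact hk

/-- conjugate elements -/
theorem mem_of_conj (h2 : (2 : F) = 0) (hM : IsCoatom H) (hH : H ≠ ⊥) {v w : chevE7.Idx → F} (hv : v ∈ RR H)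
    (hvz : v ∉ Zc F) (hw : w ∈ RR H) (hwz : w ∉ Zc F) {x : Gh F} (hx : L F x v = w) : ad F x ∈ H := by
  have h3 := StZ_eq h2 hM hv hvz
  have h4 := StZ_eq h2 hM hw hwz
  have key : ∀ g : Gh F, g ∈ StZ v ↔ x * g * x⁻¹ ∈ StZ w := by
    intro g
    rw [mem_StZ, mem_StZ]
    have h5 : L F x⁻¹ w = v := by rw [← hx, L_inv_apply]
    have e : L F (x * g * x⁻¹) w - w = L F x (L F g v - v) := by
      rw [L_mul_apply, L_mul_apply, h5, map_sub, hx]
    rw [e]
    constructor
    · intro h; exact L_sub_mem h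
    · intro h
      have h6 := L_sub_mem (g := x⁻¹) h
      rwa [L_inv_apply] at h6
  rw [← Cfsg.Agent.R2.T2.Orb.normalizer_eq hM hH, Subgroup.mem_normalizer_iff]
  intro h
  obtain ⟨g, rfl⟩ := ad_surjective h
  have h5 := key g
  rw [h3, h4, Subgroup.mem_comap, Subgroup.mem_comap, map_mul, map_mul, map_inv] at h5
  exact h5

/-- **counting orbits** -/
theorem orb [Finite F] (h2 : (2 : F) = 0) (hM : IsCoatom H) (hH : H ≠ ⊥) (S N : Set (chevE7.Idx → F))
    (hS : ∀ w ∈ S, w ∈ RR H ∧ w ∉ Zc F) (hN : ∀ w ∈ S, ∀ g, L F g w ∈ N) :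
    Nat.card S * Nat.card ↥(chevE7.group F) ≤ Nat.card ↥H * Nat.card N := by
  have hcount := Cfsg.Agent.R2.T2.Orb.count_in (ρ := L F) (H.comap (ad F)) S N hN (by
    intro w hw w' hw' x hx
    exact mem_of_conj h2 hM hH (hS w hw).1 (hS w hw).2 (hS w' hw').1 (hS w' hw').2 hx)
  have e1 := Subgroup.card_mul_index (H.comap (ad F))
  have e2 := Subgroup.card_mul_index H
  rw [Subgroup.index_comap_of_surjective H ad_surjective] at e1
  have hpos : 0 < Nat.card ↥(H.comap (ad F)) := Nat.card_pos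
  have h4 : Nat.card S * H.index ≤ Nat.card N := by
    have h5 : Nat.card ↥(H.comap (ad F)) * (Nat.card S * H.index) ≤ Nat.card ↥(H.comap (ad F)) * Nat.card N := by
      calc Nat.card ↥(H.comap (ad F)) * (Nat.card S * H.index) = Nat.card S * (Nat.card ↥(H.comap (ad F)) * H.index) := by ring
        _ = Nat.card S * Nat.card (Gh F) := by rw [e1]
        _ ≤ Nat.card ↥(H.comap (ad F)) * Nat.card N := hcount
    exact Nat.le_of_mul_le_mul_left h5 hpos
  calc Nat.card S * Nat.card ↥(chevE7.group F) = Nat.card ↥H * (Nat.card S * H.index) := by rw [← e2]; ring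
    _ ≤ Nat.card ↥H * Nat.card N := Nat.mul_le_mul_left _ h4

/-- squares of elements fixed modulo the centre -/
theorem sq_RR (h2 : (2 : F) = 0) {v w : chevE7.Idx → F} (hv : v ∈ RR H) (hw : del F w = del F v * del F v) : w ∈ RR H := by
  intro g hg
  obtain ⟨c, hc⟩ := mem_Zc.1 (hv g hg)
  have h1 : del F (L F g v) = del F v + c • (1 : Matrix D1 D1 F) := by
    rw [map_sub] at hc
    rw [hc]
    abel
  have hcd : rho F g⁻¹ * rho F g = 1 := by rw [← map_mul, inv_mul_cancel, map_one]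
  have h3 : del F (L F g w) = del F (L F g v) * del F (L F g v) := by
    rw [del_L', del_L', hw]
    calc rho F g * (del F v * del F v) * rho F g⁻¹ = rho F g * del F v * 1 * del F v * rho F g⁻¹ := by
          simp only [mul_assoc, one_mul]
      _ = _ := by rw [← hcd]; simp only [mul_assoc]
  refine mem_Zc.2 ⟨c * c, ?_⟩
  rw [map_sub, h3, h1, hw, mul_add, add_mul, add_mul, smul_mul_smul_comm, one_mul, mul_smul_comm, smul_mul_assoc, mul_one,
    one_mul]
  have e : c • del F v + c • del F v = 0 := by rw [← two_smul F, h2, zero_smul]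
  calc (c * c) • (1 : Matrix D1 D1 F) = (c • del F v + c • del F v) + (c * c) • (1 : Matrix D1 D1 F) := by rw [e, zero_add]
    _ = _ := by abel

end

/-! ### the order -/

section card
variable {F : Type u} [Field F] [Finite F]

/-- an even order is a power of two -/
theorem even_card (h2 : (2 : F) = 0) : 2 ∣ Nat.card F := by
  obtain ⟨p, hp⟩ := CharP.exists F
  have hp2 : p = 2 := by
    have h1 : p ∣ 2 := (CharP.cast_eq_zero_iff F p 2).1 (by exact_mod_cast h2)
    rcases (Nat.dvd_prime Nat.prime_two).1 h1 with h | h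
    · exfalso
      subst h
      exact CharP.char_ne_one F 1 rfl
    · exact h
  subst hp2
  have := Fintype.ofFinite F
  obtain ⟨n, -, hn⟩ := FiniteField.card F 2
  rw [Nat.card_eq_fintype_card, hn]
  exact dvd_pow_self 2 n.ne_zero

/-- `0.93 q^133 ≤ |G|` for `q ≥ 4` even -/
theorem order_two (h2 : (2 : F) = 0) (hq : 4 ≤ Nat.card F) : 93 * Nat.card F ^ 133 ≤ 100 * Nat.card ↥(chevE7.group F) := by
  have ho := order (K := F)
  obtain ⟨t, ht⟩ := even_card h2
  set q := Nat.card F with hqdef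
  have hg : Nat.gcd 2 (q - 1) = 1 := by
    have h1 : Nat.Coprime 2 (q - 1) := by
      rw [Nat.coprime_two_left]
      exact ⟨t - 1, by omega⟩
    exact h1
  rw [hg, one_mul] at ho
  have key : ∀ a, 4 ^ a * (q ^ a - 1) ≥ (4 ^ a - 1) * q ^ a := by
    intro a
    have h4 : 4 ^ a ≤ q ^ a := Nat.pow_le_pow_left hq a
    have h5 : 1 ≤ 4 ^ a := Nat.one_le_pow _ _ (by omega)
    rw [Nat.mul_sub, Nat.sub_mul, mul_one, one_mul]
    omega
  have k2 := key 2
  have k6 := key 6
  have k8 := key 8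
  have k10 := key 10
  have k12 := key 12
  have k14 := key 14
  have k18 := key 18
  set N := Nat.card ↥(chevE7.group F) with hN
  have h : (4 ^ 2 - 1) * (4 ^ 6 - 1) * (4 ^ 8 - 1) * (4 ^ 10 - 1) * (4 ^ 12 - 1) * (4 ^ 14 - 1) * (4 ^ 18 - 1) * q ^ 133 ≤
      4 ^ 70 * N := by
    calc (4 ^ 2 - 1) * (4 ^ 6 - 1) * (4 ^ 8 - 1) * (4 ^ 10 - 1) * (4 ^ 12 - 1) * (4 ^ 14 - 1) * (4 ^ 18 - 1) * q ^ 133
        = q ^ 63 * ((4 ^ 2 - 1) * q ^ 2) * ((4 ^ 6 - 1) * q ^ 6) * ((4 ^ 8 - 1) * q ^ 8) *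
            ((4 ^ 10 - 1) * q ^ 10) * ((4 ^ 12 - 1) * q ^ 12) * ((4 ^ 14 - 1) * q ^ 14) * ((4 ^ 18 - 1) * q ^ 18) := by ring
      _ ≤ q ^ 63 * (4 ^ 2 * (q ^ 2 - 1)) * (4 ^ 6 * (q ^ 6 - 1)) * (4 ^ 8 * (q ^ 8 - 1)) * (4 ^ 10 * (q ^ 10 - 1)) *
            (4 ^ 12 * (q ^ 12 - 1)) * (4 ^ 14 * (q ^ 14 - 1)) * (4 ^ 18 * (q ^ 18 - 1)) := by gcongr
      _ = 4 ^ 70 * (q ^ 63 * (q ^ 2 - 1) * (q ^ 6 - 1) * (q ^ 8 - 1) * (q ^ 10 - 1) * (q ^ 12 - 1) * (q ^ 14 - 1) *
            (q ^ 18 - 1)) := by ring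
      _ = _ := by rw [← ho]
  norm_num at h
  omega

variable {H : Subgroup ↥(chevE7.group F)}

/-- **no element satisfies a quadratic equation** -/
theorem no_sq (h2 : (2 : F) = 0) (hM : IsCoatom H) (hH : H ≠ ⊥) (hc : Nat.card ↥H ≤ 720) (hq : 4 ≤ Nat.card F)
    {v : chevE7.Idx → F} (hv : v ∈ RR H) (hvz : v ∉ Zc F) {a b : F}
    (h : del F v * del F v = a • del F v + b • (1 : Matrix D1 D1 F)) : False := by
  have h1 := orb h2 hM hH {v} {z | del F z * del F z = a • del F z + b • (1 : Matrix D1 D1 F)}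
    (by rintro w rfl; exact ⟨hv, hvz⟩) (by
      rintro w hw g
      have hw' : w = v := hw
      subst hw'
      have hcd : rho F g⁻¹ * rho F g = 1 := by rw [← map_mul, inv_mul_cancel, map_one]
      have hdc : rho F g * rho F g⁻¹ = 1 := by rw [← map_mul, mul_inv_cancel, map_one]
      show del F (L F g w) * del F (L F g w) = a • del F (L F g w) + b • (1 : Matrix D1 D1 F)
      rw [del_L']
      calc rho F g * del F w * rho F g⁻¹ * (rho F g * del F w * rho F g⁻¹)
          = rho F g * (del F w * (rho F g⁻¹ * rho F g) * del F w) * rho F g⁻¹ := by simp only [mul_assoc]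
        _ = rho F g * (a • del F w + b • (1 : Matrix D1 D1 F)) * rho F g⁻¹ := by rw [hcd, mul_one, h]
        _ = _ := by rw [mul_add, add_mul, mul_smul_comm, smul_mul_assoc, mul_smul_comm, smul_mul_assoc, mul_one, hdc])
  have h3 := Cfsg.Agent.R2.T2.N6K.card_sq (F := F) a b
  have h4 := order_two h2 hq
  rw [Nat.card_unique, one_mul] at h1
  have h5 : Nat.card ↥(chevE7.group F) ≤ 720 * (27 * Nat.card F ^ 116 + Nat.card F ^ 106) :=
    h1.trans (Nat.mul_le_mul hc h3)
  set q := Nat.card F with hqdef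
  have h6 : q ^ 133 = q ^ 17 * q ^ 116 := by rw [← pow_add]
  have h7 : q ^ 106 ≤ q ^ 116 := Nat.pow_le_pow_right (by omega) (by norm_num)
  have h8 : 4 ^ 17 ≤ q ^ 17 := Nat.pow_le_pow_left hq 17
  have h9 : 0 < q ^ 116 := Nat.pow_pos (by omega)
  rw [h6] at h4
  have h10 : 4 ^ 17 * q ^ 116 ≤ q ^ 17 * q ^ 116 := Nat.mul_le_mul_right _ h8
  norm_num at h10
  omega

/-- the dimension -/
theorem card_RR (h2 : (2 : F) = 0) (hM : IsCoatom H) (hH : H ≠ ⊥) (hc : Nat.card ↥H ≤ 720) (hq : 4 ≤ Nat.card F) :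
    93 * (Nat.card F ^ finrank F (RR H) - Nat.card F) ≤ 72000 := by
  have hfin : Finite (chevE7.Idx → F) := Module.finite_of_finite F
  have h1 := orb h2 hM hH ((RR H : Set (chevE7.Idx → F)) \ (Zc F : Set (chevE7.Idx → F))) Set.univ
    (fun w hw => ⟨hw.1, hw.2⟩) (fun _ _ _ => Set.mem_univ _)
  have h3 : Nat.card ((RR H : Set (chevE7.Idx → F)) \ (Zc F : Set (chevE7.Idx → F)) : Set (chevE7.Idx → F)) =
      Nat.card F ^ finrank F (RR H) - Nat.card F := by
    have e1 := Set.ncard_diff (s := (Zc F : Set (chevE7.Idx → F))) (t := (RR H : Set (chevE7.Idx → F)))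
      (fun v hv => Zc_le_RR hv) (Set.toFinite _)
    have e2 : (RR H : Set (chevE7.Idx → F)).ncard = Nat.card F ^ finrank F (RR H) := by
      rw [← Module.natCard_eq_pow_finrank (K := F)]
      rfl
    have e3 : (Zc F : Set (chevE7.Idx → F)).ncard = Nat.card F := by
      have e4 : (Zc F : Set (chevE7.Idx → F)).ncard = Nat.card F ^ finrank F (Zc F) := by
        rw [← Module.natCard_eq_pow_finrank (K := F)]
        rfl
      rw [e4, Cfsg.Agent.R2.T1.N6D.finrank_Zc h2, pow_one]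
    rw [e2, e3] at e1
    exact e1
  have h4 : Nat.card (Set.univ : Set (chevE7.Idx → F)) = Nat.card F ^ 133 := by
    rw [Nat.card_univ, Nat.card_fun, Nat.card_eq_fintype_card (α := chevE7.Idx), card_Idx]
  rw [h3, h4] at h1
  have h5 := order_two h2 hq
  set q := Nat.card F with hqdef
  set A := q ^ finrank F (RR H) - q with hA
  set N := Nat.card ↥(chevE7.group F) with hN
  have h6 : A * N ≤ 720 * q ^ 133 := h1.trans (Nat.mul_le_mul_right _ hc)
  have h9 : 0 < q ^ 133 := Nat.pow_pos (by omega)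
  by_contra hno
  push Not at hno
  have h7 : 72000 * q ^ 133 < 93 * A * q ^ 133 := Nat.mul_lt_mul_of_pos_right hno h9
  have h8 : A * (93 * q ^ 133) ≤ A * (100 * N) := Nat.mul_le_mul_left _ h5
  have e1 : 93 * A * q ^ 133 = A * (93 * q ^ 133) := by ring
  have e2 : A * (100 * N) = 100 * (A * N) := by ring
  omega

end card

end Cfsg.Agent.R2.T2.Two
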